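import Groth.Agent.CohEdge27.Edge
import Groth.Agent.FlatBC14.Main
import Groth.Agent.Coherent.ProjFormula
import Groth.Agent.Coherent.FlatBaseChangeMain
import Groth.Agent.Coherent.RpushCoh
import Groth.Agent.RefHullLib.LowDim
import Groth.Agent.AlgSpLib.OnePointFlat
import Groth.Agent.Coherent.ProjSpaceBC
import Groth.Agent.PicLib.PicGroup
import Groth.Agent.PicLib.FormalGen

/-!
# Cohomology of external tensor products over a field: the lowest degree
-/

set_option autoImplicit false
set_option linter.style.haveILetI false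
set_option backward.isDefEq.respectTransparency.types false
set_option maxHeartbeats 4000000

universe u

open CategoryTheory CategoryTheory.Limits AlgebraicGeometry TopologicalSpace Opposite
open Groth.Agent.Coherent Groth.Agent.AmpleLib Groth.Agent.PicLib

namespace Groth.Agent.CohEdge27

/-- A module over an affine scheme all of whose sections vanish... on the spectrum of a field. -/
theorem isZero_of_field {k : Type u} [Field k] (N : (Spec (CommRingCat.of k)).Modules)
    (h : Subsingleton Γ(N, ⊤)) : IsZero N := by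
  rw [IsZero.iff_id_eq_zero]
  refine Scheme.Modules.hom_ext _ _ fun U => ?_
  have hU : U = ⊥ ∨ U = ⊤ := by
    rcases (U : Set (Spec (CommRingCat.of k))).eq_empty_or_nonempty with h | ⟨x, hx⟩
    · exact Or.inl (SetLike.coe_injective (by simp [h]))
    · exact Or.inr (top_le_iff.1 fun y _ => (Subsingleton.elim x y) ▸ hx)
  have hs : Subsingleton Γ(N, U) := by
    rcases hU with rfl | rfl
    · exact ⟨fun a b => TopCat.Sheaf.eq_of_locally_eq' (⟨(Coh.toAb N).obj, (Coh.toAb N).property⟩ :
        TopCat.Sheaf AddCommGrpCat.{u} (Spec (CommRingCat.of k)).toTopCat)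
        (fun i : PEmpty.{u + 1} => i.elim) _ (fun i => i.elim) bot_le _ _ (fun i => i.elim)⟩
    · exact h
  ext m
  exact Subsingleton.elim _ _

/-- A map out of the structure sheaf is determined by its global section. -/
theorem hom_structure_eq_zero {X : Scheme.{u}} {N : X.Modules} (h : Subsingleton Γ(N, ⊤))
    (φ : Coh.structureModule X ⟶ N) : φ = 0 := by
  rw [← unitDesc_unitVal φ, ← unitDesc_unitVal (0 : Coh.structureModule X ⟶ N)]
  exact congrArg _ (Subsingleton.elim _ _)

/-- `H^0` is global sections. -/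
noncomputable def hhZero {X : Scheme.{u}} (M : X.Modules) : Coh.HH X M 0 ≃+ Γ(M, ⊤) :=
  (HHTopEquiv M 0).trans (secH (X := X.toTopCat) (Coh.toAb M) (⊤ : X.Opens))

theorem isZero_tensor_of_isZero {X : Scheme.{u}} (E : X.Modules) {N : X.Modules} (h : IsZero N) :
    IsZero (CohB1.tensorMod E N) := by
  rw [IsZero.iff_id_eq_zero]
  refine AmpleLib.hom_ext fun U a b => ?_
  have hb : b = 0 :=
    congrArg (fun φ : N ⟶ N => φ.app U b) (h.eq_of_src (𝟙 N) 0)
  subst hb
  have h0 : tmul a (0 : Γ(N, U)) = 0 := by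
    have := tmul_add_right a (0 : Γ(N, U)) 0
    rwa [add_zero, left_eq_add] at this
  exact (congrArg (fun m => (𝟙 (CohB1.tensorMod E N) : _ ⟶ _).app U m) h0).trans
    ((map_zero _).trans rfl)

theorem subsingleton_of_isZero {X : Scheme.{u}} {N : X.Modules} (h : IsZero N) (U : X.Opens) :
    Subsingleton Γ(N, U) :=
  subsingleton_of_forall_eq 0 fun z => congrArg (fun φ : N ⟶ N => φ.app U z) (h.eq_of_src (𝟙 N) 0)

/-- Vanishing is invariant under isomorphisms of schemes over a field. -/
theorem subsingleton_HH_pullback_iso {k : Type u} [Field k] {Z Z' : Scheme.{u}} (e : Z' ⟶ Z)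
    [IsIso e] (str : Z ⟶ Spec (CommRingCat.of k)) [QuasiCompact str] [IsSeparated str]
    (M : Z.Modules) [Coh.IsQCoh M] (i : ℕ) (h : Subsingleton (Coh.HH Z M i)) :
    Subsingleton (Coh.HH Z' ((Scheme.Modules.pullback e).obj M) i) := by
  letI : Z.Over (Spec (CommRingCat.of k)) := ⟨str⟩
  letI : Z'.Over (Spec (CommRingCat.of k)) := ⟨e ≫ str⟩
  haveI : CompactSpace Z := QuasiCompact.compactSpace_of_compactSpace str
  haveI : QuasiSeparatedSpace Z :=
    quasiSeparatedSpace_of_quasiSeparated str
  have hsq : IsPullback e (Z' ↘ Spec (CommRingCat.of k)) (Z ↘ Spec (CommRingCat.of k))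
      (Spec.map (CommRingCat.ofHom (algebraMap k k))) := by
    rw [Algebra.algebraMap_self, CommRingCat.ofHom_id, Spec.map_id]
    exact IsPullback.of_horiz_isIso ⟨(Category.comp_id _).symm⟩
  obtain ⟨ψ⟩ := nonempty_flat_base_change (A := k) (B := k) e M hsq i
  haveI : Subsingleton (TensorProduct k k (Coh.HH Z M i)) :=
    (TensorProduct.lid k _).toEquiv.subsingleton
  exact ψ.symm.toEquiv.subsingleton

section

variable {k : Type u} [Field k] (X Y : Over (Spec (CommRingCat.of k))) [IsProper X.hom] [IsProper Y.hom]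
  (L : Y.left.Modules)

/-- The direct images of `pr₂^* L` along `pr₁`. -/
theorem nonempty_rpush_fst_iso [Coh.IsQCoh L] [HasInjectiveResolutions Y.left.Modules]
    [HasInjectiveResolutions (pullback X.hom Y.hom).Modules] (j : ℕ) :
    Nonempty ((Scheme.Modules.pullback X.hom).obj ((Coh.Rpush Y.hom j).obj L) ≅
      (Coh.Rpush (pullback.fst X.hom Y.hom) j).obj
        ((Scheme.Modules.pullback (pullback.snd X.hom Y.hom)).obj L)) := by
  haveI : Flat X.hom := inferInstance
  exact Groth.Agent.FlatBC14.nonempty_rpush_flat_base_change Y.hom X.hom (pullback.snd X.hom Y.hom)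
    (pullback.fst X.hom Y.hom) ((IsPullback.of_hasPullback X.hom Y.hom).flip) L j

/-- `R^j` of the structure map vanishes iff `H^j` does. -/
theorem subsingleton_HH_iff_isZero [Coh.IsQCoh L] [HasInjectiveResolutions Y.left.Modules] (j : ℕ) :
    Subsingleton (Coh.HH Y.left L j) ↔ IsZero ((Coh.Rpush Y.hom j).obj L) := by
  haveI : CompactSpace Y.left := QuasiCompact.compactSpace_of_compactSpace Y.hom
  haveI : QuasiSeparatedSpace Y.left := quasiSeparatedSpace_of_quasiSeparated Y.hom
  let e : Coh.HH Y.left L j ≃+ Γ((Coh.Rpush Y.hom j).obj L, ⊤) :=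
    (HHTopEquiv L j).trans (AddEquiv.ofBijective (toRpush Y.hom L j ⊤) (toRpush_bijective Y.hom L j))
  exact ⟨fun h => isZero_of_field _ e.symm.toEquiv.subsingleton,
    fun h => @Equiv.subsingleton _ _ e.toEquiv (subsingleton_of_isZero h ⊤)⟩

/-- The lowest piece of the cohomology of `M ⊠ L` vanishes when `M` has no sections. -/
theorem subsingleton_HH_boxtensor (M : X.left.Modules) (hM : PicF.IsInvertible M) (hL : PicF.IsInvertible L)
    (k' : ℕ) (h0 : Subsingleton (Coh.HH X.left M 0))
    (hj : ∀ j < k', Subsingleton (Coh.HH Y.left L j)) :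
    Subsingleton (Coh.HH (pullback X.hom Y.hom) (CohB1.tensorMod
      ((Scheme.Modules.pullback (pullback.fst X.hom Y.hom)).obj M)
      ((Scheme.Modules.pullback (pullback.snd X.hom Y.hom)).obj L)) k') := by
  haveI := hasInjectiveResolutions_modules Y.left
  haveI := hasInjectiveResolutions_modules X.left
  haveI := hasInjectiveResolutions_modules (pullback X.hom Y.hom)
  haveI : Coh.IsQCoh L := isQCoh_of_isInvertible hL
  haveI : IsNoetherian X.left := {
    LocallyOfFiniteType.isLocallyNoetherian X.hom, QuasiCompact.compactSpace_of_compactSpace X.hom with }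
  haveI : IsLocallyNoetherian Y.left := LocallyOfFiniteType.isLocallyNoetherian Y.hom
  set p := pullback.fst X.hom Y.hom
  set q := pullback.snd X.hom Y.hom
  have hp := PicLoc.isInvertible_pullback p hM
  have hq := PicLoc.isInvertible_pullback q hL
  set F := CohB1.tensorMod ((Scheme.Modules.pullback p).obj M) ((Scheme.Modules.pullback q).obj L)
  haveI : Coh.IsQCoh F := isQCoh_of_isInvertible (isInvertible_tensorMod hp hq)
  have hMf : FlatMod.IsFinLocFree M := Coherent.isFinLocFree_of_invertible hM
  have hzero : ∀ j < k', IsZero ((Coh.RpushAb p j).obj (Coh.toAb F)) := by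
    intro j hjk
    obtain ⟨e⟩ := nonempty_rpush_fst_iso X Y L j
    obtain ⟨e'⟩ := nonempty_projection_formula (f := p) hMf ((Scheme.Modules.pullback q).obj L) j
    have hV := (subsingleton_HH_iff_isZero Y L j).1 (hj j hjk)
    have hz : IsZero ((Coh.Rpush p j).obj F) :=
      (isZero_tensor_of_isZero M (((Functor.map_isZero _ hV).of_iso e.symm))).of_iso e'.symm
    exact ((Functor.map_isZero (toAbFunctor X.left) hz)).of_iso (toAbRpushIso p F j).symm
  obtain ⟨φ⟩ := nonempty_HH_equiv p F k' hzero
  refine @Equiv.subsingleton _ _ φ.toEquiv ?_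
  obtain ⟨e⟩ := nonempty_rpush_fst_iso X Y L k'
  obtain ⟨e'⟩ := nonempty_projection_formula (f := p) hMf ((Scheme.Modules.pullback q).obj L) k'
  set V := (Coh.Rpush Y.hom k').obj L
  have hV : Coh.IsCoh V := isCoh_rpush Y.hom (PicLib.isCoh_of_isInvertible hL) k'
  have hVf : FlatMod.IsFinLocFree V :=
    (Groth.Agent.RefHullLib.isFinLocFree_iff_free_stalks hV).2 fun x => by
      letI := (AlgSpLib.isField_stalk_of_maximal x fun y _ => Subsingleton.elim y x).toField
      exact Module.Free.of_divisionRing _ _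
  -- `Γ(X, M ⊗ s^*V) = Γ(Spec k, V ⊗ s_* M) = 0`
  have hs : IsZero ((Scheme.Modules.pushforward X.hom).obj M) :=
    isZero_of_field _ ((hhZero M).symm.toEquiv.subsingleton : Subsingleton Γ(M, ⊤))
  have h1 : Subsingleton Γ(CohB1.tensorMod ((Scheme.Modules.pullback X.hom).obj V) M, ⊤) :=
    subsingleton_of_isZero ((isZero_tensor_of_isZero V hs).of_iso ((projIso (f := X.hom) hVf).app M).symm) ⊤
  let c := AmpleLib.tensorComm ((Scheme.Modules.pullback X.hom).obj V) M
  let ι : (Coh.Rpush p k').obj F ≅ CohB1.tensorMod ((Scheme.Modules.pullback X.hom).obj V) M :=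
    e'.symm ≪≫ (tensE M).mapIso e.symm ≪≫ c.symm
  exact subsingleton_of_forall_eq 0 fun z => by
    have hz : ι.hom.app ⊤ z = 0 := h1.elim _ _
    have := congrArg (ι.inv.app ⊤) hz
    rw [map_zero] at this
    exact (congrArg (fun ψ : (Coh.Rpush p k').obj F ⟶ _ => ψ.app ⊤ z) ι.hom_inv_id).symm.trans this

/-- `H^k(X × Y, pr₂^* L) = 0` forces `H^k(Y, L) = 0` in the lowest degree. -/
theorem subsingleton_HH_of_snd (hL : PicF.IsInvertible L) (k' : ℕ)
    (e : Spec (CommRingCat.of k) ⟶ X.left) (he : e ≫ X.hom = 𝟙 _)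
    (hj : ∀ j < k', Subsingleton (Coh.HH Y.left L j))
    (h : Subsingleton (Coh.HH (pullback X.hom Y.hom)
      ((Scheme.Modules.pullback (pullback.snd X.hom Y.hom)).obj L) k')) :
    Subsingleton (Coh.HH Y.left L k') := by
  haveI := hasInjectiveResolutions_modules Y.left
  haveI := hasInjectiveResolutions_modules (pullback X.hom Y.hom)
  haveI : Coh.IsQCoh L := isQCoh_of_isInvertible hL
  haveI : IsNoetherian X.left := {
    LocallyOfFiniteType.isLocallyNoetherian X.hom, QuasiCompact.compactSpace_of_compactSpace X.hom with }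
  set p := pullback.fst X.hom Y.hom
  set F := (Scheme.Modules.pullback (pullback.snd X.hom Y.hom)).obj L
  haveI : Coh.IsQCoh F := isQCoh_of_isInvertible (PicLoc.isInvertible_pullback _ hL)
  have hzero : ∀ j < k', IsZero ((Coh.RpushAb p j).obj (Coh.toAb F)) := by
    intro j hjk
    obtain ⟨ej⟩ := nonempty_rpush_fst_iso X Y L j
    have hz : IsZero ((Coh.Rpush p j).obj F) :=
      (Functor.map_isZero _ ((subsingleton_HH_iff_isZero Y L j).1 (hj j hjk))).of_iso ej.symm
    exact ((Functor.map_isZero (toAbFunctor X.left) hz)).of_iso (toAbRpushIso p F j).symm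
  obtain ⟨φ⟩ := nonempty_HH_equiv p F k' hzero
  have hΓ : Subsingleton Γ((Coh.Rpush p k').obj F, ⊤) := φ.symm.toEquiv.subsingleton
  obtain ⟨ψ⟩ := nonempty_rpush_fst_iso X Y L k'
  set V := (Coh.Rpush Y.hom k').obj L
  refine (subsingleton_HH_iff_isZero Y L k').2 (isZero_of_field _ (subsingleton_of_forall_eq 0 fun v => ?_))
  -- the pull back to `X` of the map given by a section vanishes
  obtain ⟨str⟩ := exists_pullStructureIso X.hom
  have h1 : (Scheme.Modules.pullback X.hom).map (unitDesc V v) = 0 := by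
    have := hom_structure_eq_zero hΓ (str.inv ≫ (Scheme.Modules.pullback X.hom).map (unitDesc V v) ≫ ψ.hom)
    rwa [← cancel_mono ψ.hom, ← cancel_epi str.inv, zero_comp, comp_zero]
  let η : Scheme.Modules.pullback X.hom ⋙ Scheme.Modules.pullback e ≅ 𝟭 _ :=
    Scheme.Modules.pullbackComp e X.hom ≪≫ Scheme.Modules.pullbackCongr he ≪≫ Scheme.Modules.pullbackId _
  have h2 : unitDesc V v = 0 := by
    have hn := η.hom.naturality (unitDesc V v)
    rw [Functor.comp_map, h1, Functor.map_zero, zero_comp, Functor.id_map] at hn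
    exact (cancel_epi (η.hom.app _)).1 (hn.symm.trans comp_zero.symm)
  have h3 := congrArg (fun ψ => unitVal ψ (⊤ : (Spec (CommRingCat.of k)).Opens)) h2
  rw [unitVal_unitDesc, resM_self] at h3
  exact h3.trans rfl

end

end Groth.Agent.CohEdge27
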