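import Groth.Agent.CohEdge27.SquareSurj
import Groth.Agent.AbCubeLib.ExistsAmple
import Mathlib.AlgebraicGeometry.Group.Abelian

/-!
# Invariant classes on abelian varieties over algebraically closed fields are algebraically trivial
-/

set_option autoImplicit false
set_option linter.style.haveILetI false
set_option maxHeartbeats 4000000
set_option backward.isDefEq.respectTransparency.types false

universe u

open CategoryTheory CategoryTheory.Limits MonoidalCategory CartesianMonoidalCategory MonObj GrpObj AlgebraicGeometry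
open Groth.Agent Groth.Agent.AmpleLib Groth.Agent.PicLib Groth.Agent.CubeLib Groth.Agent.AbCubeLib TopologicalSpace

namespace Groth.Agent.CohEdge27

variable {k : Type u} [Field k] [IsAlgClosed k] (A : Over (Spec (CommRingCat.of k))) [GrpObj A]
  [IsProper A.hom] [GeometricallyIntegral A.hom]

/-- The classes `τ_x^* l ⊗ l⁻¹` are algebraically trivial. -/
theorem isAlgEquivZero_phi (l l' : PicM A.left) (hll : l * l' = 1)
    (x : 𝟙_ (Over (Spec (CommRingCat.of k))) ⟶ A) (N : A.left.Modules) (hN : PicF.IsInvertible N)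
    (h : pb (𝟙 A * (toUnit A ≫ x)) l * l' = PicM.of hN) : Pic13.IsAlgEquivZero k A.left N := by
  haveI : IsIntegral A.left := GeometricallyIntegral.isIntegral_of_subsingleton A.hom
  obtain ⟨M, hM, hMe⟩ := PicM.exists_eq_of (pb (fst A A * snd A A) l * pb (fst A A) l')
  have hsl : ∀ y : 𝟙_ (Over (Spec (CommRingCat.of k))) ⟶ A,
      PicM.pull (Pic13.sliceAt k A.left A.hom y.left (Over.w y)) (PicM.of hM) =
        pb (𝟙 A * (toUnit A ≫ y)) l * l' := by
    intro y
    have hs : Pic13.sliceAt k A.left A.hom y.left (Over.w y) = (lift (𝟙 A) (toUnit A ≫ y)).left := by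
      refine pullback.hom_ext ?_ ?_
      · rw [Pic13.sliceAt, pullback.lift_fst]
        exact ((congrArg (fun z : A ⟶ A => z.left) (lift_fst (𝟙 A) (toUnit A ≫ y))).symm.trans
          (Over.comp_left _ _ _ _ _)).trans rfl
      · rw [Pic13.sliceAt, pullback.lift_snd]
        have hW : (toUnit A).left = A.hom := (Category.comp_id _).symm.trans (Over.w (toUnit A))
        refine Eq.trans ?_ ((congrArg (fun z : A ⟶ A => z.left) (lift_snd (𝟙 A) (toUnit A ≫ y))).symm.trans
          (Over.comp_left _ _ _ _ _))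
        rw [Over.comp_left, hW]
        rfl
    refine ((congrArg (fun g => PicM.pull g (PicM.of hM)) hs).trans
      (congrArg (PicM.pull (lift (𝟙 A) (toUnit A ≫ y)).left) hMe.symm)).trans ?_
    change pb (lift (𝟙 A) (toUnit A ≫ y)) (pb _ l * pb _ l') = _
    rw [pb, map_mul]
    change pb _ (pb _ l) * pb _ (pb _ l') = _
    rw [pb_pb, pb_pb, comp_mul, lift_fst, lift_snd, AbCubeLib.pb_id]
  refine ⟨A.left, A.hom, inferInstance, inferInstance, inferInstance, M, hM, x.left,
    (1 : 𝟙_ (Over (Spec (CommRingCat.of k))) ⟶ A).left, Over.w x, Over.w _, ?_, ?_⟩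
  · exact (PicM.of_eq_iff (PicLoc.isInvertible_pullback _ hM) hN).1
      (((PicM.pull_of _ hM).symm.trans (hsl x)).trans h)
  · refine (PicM.of_eq_one_iff (PicLoc.isInvertible_pullback _ hM)).1
      (((PicM.pull_of _ hM).symm.trans (hsl 1)).trans ?_)
    rw [comp_one, _root_.mul_one, AbCubeLib.pb_id, hll]

/-- Invariant classes are algebraically trivial. -/
theorem isAlgEquivZero_of_invariant (M : A.left.Modules) (hM : PicF.IsInvertible M)
    (h : ∀ x : 𝟙_ (Over (Spec (CommRingCat.of k))) ⟶ A,
      pb (𝟙 A * (toUnit A ≫ x)) (PicM.of hM) = PicM.of hM) : Pic13.IsAlgEquivZero k A.left M := by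
  obtain ⟨L, hL, hLa⟩ := exists_ample (A := A)
  obtain ⟨l', hll⟩ := PicM.exists_mul_eq_one (PicM.of hL)
  obtain ⟨x, hx⟩ := exists_translate_eq A (PicM.of hL) (PicM.of hM) (finite_fixing_of_isAmple hLa) h
  exact isAlgEquivZero_phi A (PicM.of hL) l' hll x M hM (by rw [hx, _root_.mul_assoc, hll, _root_.mul_one])

end Groth.Agent.CohEdge27
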