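import Groth.Agent.CohEdge27.Product
import Groth.Agent.Coherent.CohBC.Relative
import Groth.Agent.AbCubeLib.KernelPhi
import Groth.Agent.Coherent.FibreVanish
import Groth.Agent.FlatMorStrat.Supported

/-!
# Vanishing of all direct images and vanishing on the fibres
-/

set_option autoImplicit false
set_option linter.style.haveILetI false
set_option backward.isDefEq.respectTransparency.types false
set_option maxHeartbeats 4000000

universe u

open CategoryTheory CategoryTheory.Limits AlgebraicGeometry TopologicalSpace Opposite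
open MonoidalCategory CartesianMonoidalCategory
open Groth.Agent.Coherent Groth.Agent.Coherent.CohBC Groth.Agent.AmpleLib Groth.Agent.PicLib

namespace Groth.Agent.CohEdge27

section

variable {X S : Scheme.{u}} (f : X ⟶ S) [IsProper f] [IsLocallyNoetherian S]
  [HasInjectiveResolutions X.Modules] (F : X.Modules) (hF : Coh.IsCoh F) (hfl : FlatMod.IsFlatOver f F)

include hF hfl in
/-- All direct images vanish when all closed fibres are acyclic. -/
theorem isZero_rpush_of_closed_fibres [JacobsonSpace S]
    (h : ∀ y : S, IsClosed ({y} : Set S) → ∀ p, CohIII.fiberRank f F p y = 0) (p : ℕ) :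
    IsZero ((Coh.Rpush f p).obj F) := by
  have hall : ∀ y, CohIII.fiberRank f F p y = 0 := by
    intro y
    by_contra hy
    obtain ⟨z, hz, hzc⟩ := nonempty_inter_closedPoints
      (Z := {y : S | CohIII.fiberRank f F p y = 0}ᶜ) ⟨y, hy⟩
      (isOpen_fiberRank_eq_zero f F hF hfl p).isClosed_compl.isLocallyClosed
    exact hz (h z hzc p)
  rw [IsZero.iff_id_eq_zero]
  refine Scheme.Modules.hom_ext _ _ fun U => ?_
  have hU := isZero_rpush_restrict f F hF hfl p U fun y _ => hall y
  have hs := subsingleton_of_isZero hU ⊤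
  ext m
  have hs' : Subsingleton Γ((Coh.Rpush f p).obj F, U.ι ''ᵁ ⊤) := hs
  rw [Scheme.Opens.ι_image_top] at hs'
  exact hs'.elim _ _

include hF hfl in
/-- If all direct images vanish then every fibre is acyclic. -/
theorem fiberRank_eq_zero_of_isZero_rpush (h : ∀ p, IsZero ((Coh.Rpush f p).obj F)) (p : ℕ) (y : S) :
    CohIII.fiberRank f F p y = 0 := by
  obtain ⟨V, hV, hyV, -⟩ := Opens.isBasis_iff_nbhd.mp S.isBasis_affineOpens (Opens.mem_top y)
  have : IsNoetherianRing Γ(S, V) := IsLocallyNoetherian.component_noetherian ⟨V, hV⟩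
  obtain ⟨P, hP, hpos, ⟨i₀, hb⟩, hd, hs⟩ := exists_localComplex f F hF hfl hV
  have hhom : ∀ n : ℤ, Subsingleton (P.homology n) := by
    intro n
    rcases le_or_gt n 0 with hn | hn
    · obtain ⟨m, rfl⟩ : ∃ m : ℕ, n = -(m : ℤ) := ⟨n.natAbs, by omega⟩
      obtain ⟨e⟩ := hs m
      exact @Equiv.subsingleton _ _ e.symm.toEquiv (subsingleton_of_isZero (h m) V)
    · exact ModuleCat.subsingleton_of_isZero ((hpos n hn _).of_iso (unitTIso P n).symm)
  have hfl' : ∀ n : ℤ, Module.Flat Γ(S, V) (P.homology n) := fun n =>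
    have := hhom n
    inferInstance
  have hc : ∀ n : ℤ, Module.Flat Γ(S, V) (P.X n ⧸ LinearMap.range (P.d (n + 1) n).hom) := fun n =>
    flat_coker_of_flat_homology P hP i₀ hb n (fun m _ => hfl' m) n le_rfl
  have h2 := hc (-(p : ℤ) - 1)
  rw [sub_add_cancel] at h2
  obtain ⟨-, -, hr⟩ := projective_homology P hP (-(p : ℤ) + 1) (-(p : ℤ)) (-(p : ℤ) - 1) rfl (by omega)
    (hc _) h2
  rw [hd p y hyV, ← hr]
  have := hhom (-(p : ℤ))
  simp

end

variable {k : Type u} [Field k] [IsAlgClosed k] {T W : Over (Spec (CommRingCat.of k))}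

/-- The fibre over a rational point is the slice. -/
theorem fiberRank_fst_point [IsProper T.hom] [IsProper W.hom] (G : (T ⊗ W).left.Modules)
    (hG : Coh.IsCoh G) (t : 𝟙_ (Over (Spec (CommRingCat.of k))) ⟶ T) (p : ℕ) :
    CohIII.fiberRank (fst T W).left G p (t.left (IsLocalRing.closedPoint k)) = 0 ↔
      Subsingleton (Coh.HH W.left
        ((Scheme.Modules.pullback (lift (toUnit W ≫ t) (𝟙 W)).left).obj G) p) := by
  haveI : IsProper (fst T W).left := inferInstanceAs (IsProper (pullback.fst T.hom W.hom))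
  haveI : Coh.IsQCoh G := hG.1
  let σ := (lift (toUnit W ≫ t) (𝟙 W)).left
  have hW : (toUnit W).left = W.hom := (Category.comp_id _).symm.trans (Over.w (toUnit W))
  have w : σ ≫ (fst T W).left = W.hom ≫ t.left := by
    rw [← Over.comp_left, lift_fst, Over.comp_left, hW]
  have hsnd : σ ≫ (snd T W).left = 𝟙 _ := by rw [← Over.comp_left, lift_snd, Over.id_left]
  have ht : t.left ≫ T.hom = 𝟙 _ := Over.w t
  have hsq : IsPullback σ W.hom (fst T W).left t.left := by
    refine IsPullback.of_right ?_ w (IsPullback.of_hasPullback T.hom W.hom).flip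
    rw [show σ ≫ pullback.snd T.hom W.hom = 𝟙 _ from hsnd, ht]
    exact @IsPullback.of_horiz_isIso _ _ _ _ _ _ _ _ _ _ (IsIso.id _) (IsIso.id _) ⟨by simp⟩
  let G' := (Scheme.Modules.pullback σ).obj G
  haveI : Coh.IsQCoh G' := EGA43.InjFibre.isQCoh_pullback _ _
  have hG' : Coh.IsCoh G' := ⟨inferInstance, isFT_pullback_qcoh _ hG.1 hG.2⟩
  rw [← show t.left (IsLocalRing.closedPoint k) = t.left (IsLocalRing.closedPoint k) from rfl,
    ← fiberRank_pullback hsq G p (IsLocalRing.closedPoint k), ← subsingleton_fiberH_iff_fiberRank W.hom G' hG']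
  let ι := W.hom.fiberι (IsLocalRing.closedPoint k)
  haveI : IsIso ((Spec (CommRingCat.of k)).fromSpecResidueField (IsLocalRing.closedPoint k)) := by
    have hc : IsClosed ({IsLocalRing.closedPoint k} : Set (Spec (CommRingCat.of k))) := isClosed_discrete _
    have e := SpecMap_residueFieldIsoBase_inv (𝟙 (Spec (CommRingCat.of k))) (IsLocalRing.closedPoint k) hc
    rw [Category.comp_id] at e
    rw [← e]
    infer_instance
  haveI : IsIso ι := inferInstanceAs (IsIso (pullback.fst _ _))
  constructor
  · intro h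
    haveI : IsProper (ι ≫ W.hom) := inferInstance
    haveI : Coh.IsQCoh ((Scheme.Modules.pullback ι).obj G') := EGA43.InjFibre.isQCoh_pullback _ _
    have h' := subsingleton_HH_pullback_iso (inv ι) (ι ≫ W.hom) ((Scheme.Modules.pullback ι).obj G') p h
    exact FlatMorStrat.subsingleton_HH_of_iso ((Scheme.Modules.pullbackComp (inv ι) ι).app G' ≪≫
      (Scheme.Modules.pullbackCongr (IsIso.inv_hom_id ι)).app G' ≪≫ (Scheme.Modules.pullbackId _).app G') p h'
  · intro h
    exact subsingleton_HH_pullback_iso ι W.hom G' p h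

end Groth.Agent.CohEdge27
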