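import Groth.Agent.CohEdge27.FibreCrit
import Groth.Agent.S7804
import Groth.Agent.AbCubeLib.Invariant
import Groth.Agent.AbCubeLib.KernelPhi
import Groth.Agent.AbVarLib.GeomIntegralSmooth
import Groth.Agent.Coherent.CohBC.HomSheaf

/-!
# Mumford: translates of a nondegenerate class give all invariant classes
-/

set_option autoImplicit false
set_option linter.style.haveILetI false
set_option maxHeartbeats 4000000
set_option backward.isDefEq.respectTransparency.types false

universe u

open CategoryTheory CategoryTheory.Limits MonoidalCategory CartesianMonoidalCategory MonObj GrpObj AlgebraicGeometry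
open Groth.Agent Groth.Agent.Coherent Groth.Agent.AmpleLib Groth.Agent.PicLib Groth.Agent.CubeLib Groth.Agent.AbCubeLib TopologicalSpace Opposite

namespace Groth.Agent.CohEdge27

theorem exists_translate_eq {k : Type u} [Field k] [IsAlgClosed k]
    (A : Over (Spec (CommRingCat.of k))) [GrpObj A] [IsProper A.hom] [GeometricallyIntegral A.hom]
    (l m : PicM A.left) (hfin : Set.Finite {x : 𝟙_ (Over (Spec (CommRingCat.of k))) ⟶ A |
      pb (𝟙 A * (toUnit A ≫ x)) l = l})
    (hminv : ∀ x : 𝟙_ (Over (Spec (CommRingCat.of k))) ⟶ A, pb (𝟙 A * (toUnit A ≫ x)) m = m) :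
    ∃ x : 𝟙_ (Over (Spec (CommRingCat.of k))) ⟶ A, pb (𝟙 A * (toUnit A ≫ x)) l = m * l := by
  classical
  haveI : IsCommMonObj A := isCommMonObj_of_isProper_of_geometricallyIntegral A
  haveI : IsIntegral A.left := GeometricallyIntegral.isIntegral_of_subsingleton A.hom
  haveI : IsLocallyNoetherian A.left := LocallyOfFiniteType.isLocallyNoetherian A.hom
  haveI : JacobsonSpace A.left := LocallyOfFiniteType.jacobsonSpace A.hom
  haveI : CompactSpace A.left := QuasiCompact.compactSpace_of_compactSpace A.hom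
  haveI : Smooth A.hom := NeronLib.smooth_of_geometricallyIntegral A
  obtain ⟨l', hll⟩ := PicM.exists_mul_eq_one l
  obtain ⟨m', hm⟩ := PicM.exists_mul_eq_one m
  let τ : (𝟙_ (Over (Spec (CommRingCat.of k))) ⟶ A) → (A ⟶ A) := fun x => 𝟙 A * (toUnit A ≫ x)
  have hm'inv : ∀ x, pb (τ x) m' = m' := fun x => by
    refine PicM.eq_of_mul_inv (c := m) (by rw [_root_.mul_comm, hm]) ?_
    conv_lhs => rw [← hminv x]
    rw [pb, ← map_mul, _root_.mul_comm, hm, map_one]
  by_contra hne
  push Not at hne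
  have hne' : ∀ x, pb (τ x) l * l' ≠ m := fun x h => hne x (by
    show pb (τ x) l = m * l
    rw [← h, _root_.mul_assoc, _root_.mul_comm l', hll, _root_.mul_one])
  -- the invariant classes on the slices
  let c := fun x => pb (τ x) l * l'
  have hcinv : ∀ x y, pb (τ y) (c x) = c x := by
    intro x y
    have hsq := AbCubeLib.square_const (A := A) l (𝟙 A) x y
    rw [AbCubeLib.pb_id] at hsq
    have h1 : pb (τ y) (pb (τ x) l) = pb (𝟙 A * (toUnit A ≫ (x * y))) l := by
      rw [AbCubeLib.pb_pb]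
      congr 1
      simp only [τ, comp_mul, Category.comp_id, comp_toUnit_assoc]
      rw [_root_.mul_assoc, _root_.mul_comm (toUnit A ≫ y)]
    have h2 : pb (τ y) (c x) * pb (τ y) l = pb (𝟙 A * (toUnit A ≫ (x * y))) l := by
      rw [← h1]
      simp only [c, pb]
      rw [← map_mul, _root_.mul_assoc, _root_.mul_comm l', hll, _root_.mul_one]
    have h3 : c x * pb (τ y) l = pb (𝟙 A * (toUnit A ≫ (x * y))) l := by
      simp only [c, τ] at *
      rw [_root_.mul_right_comm, ← hsq, _root_.mul_assoc, hll, _root_.mul_one]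
    exact mul_right_cancel (h2.trans h3.symm)
  -- vanishing of the cohomology of nontrivial invariant classes
  have hvan : ∀ (N : A.left.Modules) (hN : PicF.IsInvertible N),
      (∀ y, pb (τ y) (PicM.of hN) = PicM.of hN) → PicM.of hN ≠ 1 → ∀ i, Subsingleton (Coh.HH A.left N i) := by
    intro N hN hinv hne1
    refine (Groth.Agent.S7804.result k A N hN ?_).1 fun h => hne1 ((PicM.of_eq_one_iff hN).2 h)
    have := AbCubeLib.pb_fst_mul_snd_of_invariant (PicM.of hN) hinv
    rw [show fst A A * snd A A = μ[A] by rw [Hom.mul_def, lift_fst_snd, Category.id_comp], pb, pb, pb, PicM.pull_of, PicM.pull_of, PicM.pull_of, PicM.of_mul, PicM.of_eq_iff] at this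
    exact this
  let f : PicM (A ⊗ A).left := pb (fst A A * snd A A) l * pb (fst A A) l' * pb (snd A A) (l' * m')
  obtain ⟨F, hF, hFe⟩ := PicM.exists_eq_of f
  have hs1 : ∀ x, pb (lift (toUnit A ≫ x) (𝟙 A)) f = c x * m' := fun x => by
    simp only [f, pb, map_mul]
    change pb _ (pb _ l) * pb _ (pb _ l') * (pb _ (pb _ l') * pb _ (pb _ m')) = _
    rw [AbCubeLib.pb_pb, AbCubeLib.pb_pb, AbCubeLib.pb_pb, AbCubeLib.pb_pb, comp_mul, lift_fst, lift_snd,
      AbCubeLib.pb_const, AbCubeLib.pb_id, AbCubeLib.pb_id, _root_.mul_one, _root_.mul_comm (toUnit A ≫ x),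
      ← _root_.mul_assoc]
  have hs2 : ∀ x, pb (lift (𝟙 A) (toUnit A ≫ x)) f = c x := fun x => by
    simp only [f, pb, map_mul]
    change pb _ (pb _ l) * pb _ (pb _ l') * (pb _ (pb _ l') * pb _ (pb _ m')) = _
    rw [AbCubeLib.pb_pb, AbCubeLib.pb_pb, AbCubeLib.pb_pb, AbCubeLib.pb_pb, comp_mul, lift_fst, lift_snd,
      AbCubeLib.pb_const, AbCubeLib.pb_id, AbCubeLib.pb_const, _root_.mul_one, _root_.mul_one]
  haveI : IsProper (fst A A).left := inferInstanceAs (IsProper (pullback.fst A.hom A.hom))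
  haveI : Flat A.hom := inferInstance
  haveI : Flat (fst A A).left := inferInstanceAs (Flat (pullback.fst A.hom A.hom))
  haveI := hasInjectiveResolutions_modules (A ⊗ A).left
  let br : A ⊗ A ⟶ A ⊗ A := lift (snd A A) (fst A A)
  haveI : IsIso br := ⟨br, by ext1 <;> simp [br], by ext1 <;> simp [br]⟩
  haveI : IsIso br.left := (Over.forget _).map_isIso br
  have hbF := PicLoc.isInvertible_pullback br.left hF
  let F' := (Scheme.Modules.pullback br.left).obj F
  have hF'c : Coh.IsCoh F' := PicLib.isCoh_of_isInvertible hbF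
  have hFc : Coh.IsCoh F := PicLib.isCoh_of_isInvertible hF
  haveI := hF'c.1
  haveI := hFc.1
  have hfl : ∀ {N : (A ⊗ A).left.Modules}, PicF.IsInvertible N → FlatMod.IsFlatOver (fst A A).left N :=
    fun hN => CohBC.isFlatOver_of_isFinLocFree _ (Coherent.isFinLocFree_of_invertible hN)
  -- slices
  have hsl : ∀ (N : (A ⊗ A).left.Modules) (hN : PicF.IsInvertible N) (x) (p : ℕ),
      (∀ y, pb (τ y) (pb (lift (toUnit A ≫ x) (𝟙 A)) (PicM.of hN)) = pb (lift (toUnit A ≫ x) (𝟙 A)) (PicM.of hN)) →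
      pb (lift (toUnit A ≫ x) (𝟙 A)) (PicM.of hN) ≠ 1 →
      CohIII.fiberRank (fst A A).left N p (x.left (IsLocalRing.closedPoint k)) = 0 := by
    intro N hN x p h1 h2
    exact (CohEdge27.fiberRank_fst_point N (PicLib.isCoh_of_isInvertible hN) x p).2
      (hvan _ (PicLoc.isInvertible_pullback _ hN) h1 h2 p)
  have hpt : ∀ y : A.left, IsClosed ({y} : Set A.left) → ∃ x : 𝟙_ (Over (Spec (CommRingCat.of k))) ⟶ A,
      x.left (IsLocalRing.closedPoint k) = y := fun y hy =>
    ⟨Over.homMk (pointOfClosedPoint A.hom y hy) (pointOfClosedPoint_comp A.hom y hy),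
      pointOfClosedPoint_apply A.hom y hy _⟩
  have hz1 : ∀ p, IsZero ((Coh.Rpush (fst A A).left p).obj F) := fun p => by
    refine CohEdge27.isZero_rpush_of_closed_fibres _ F hFc (hfl hF) (fun y hy p => ?_) p
    obtain ⟨x, rfl⟩ := hpt y hy
    have he : pb (lift (toUnit A ≫ x) (𝟙 A)) (PicM.of hF) = c x * m' := by rw [← hFe, hs1]
    refine hsl F hF x p (fun y => ?_) ?_
    · rw [he, pb, map_mul]
      exact congrArg₂ (· * ·) (hcinv x y) (hm'inv y)
    · rw [he]
      intro h1
      exact hne' x (PicM.eq_of_mul_inv hm h1)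
  have hzero : ∀ {N : (A ⊗ A).left.Modules}, (∀ p, IsZero ((Coh.Rpush (fst A A).left p).obj N)) → ∀ p,
      IsZero ((Coh.RpushAb (fst A A).left p).obj (Coh.toAb N)) := fun {N} h p =>
    ((Functor.map_isZero (toAbFunctor A.left) (h p))).of_iso (toAbRpushIso (fst A A).left N p).symm
  haveI : QuasiSeparatedSpace A.left := quasiSeparatedSpace_of_quasiSeparated A.hom
  have hH : ∀ p, Subsingleton (Coh.HH (A ⊗ A).left F' p) := fun p => by
    haveI : IsProper (A ⊗ A).hom := inferInstanceAs (IsProper (pullback.fst A.hom A.hom ≫ A.hom))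
    refine CohEdge27.subsingleton_HH_pullback_iso br.left (A ⊗ A).hom F p ?_
    obtain ⟨φ⟩ := CohEdge27.nonempty_HH_equiv (fst A A).left F p fun j _ => hzero hz1 j
    exact @Equiv.subsingleton _ _ φ.toEquiv (CohEdge27.subsingleton_of_isZero (hz1 p) ⊤)
  -- outside the finite set of points fixing `L`
  have hK := hfin
  let Z : Set A.left := (fun x : 𝟙_ (Over (Spec (CommRingCat.of k))) ⟶ A => x.left (IsLocalRing.closedPoint k)) ''
    {x | pb (τ x) l = l}
  have hZf : Z.Finite := hK.image _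
  have hZc : ∀ z ∈ Z, IsClosed ({z} : Set A.left) := by
    rintro _ ⟨x, -, rfl⟩; exact AbCubeLib.isClosed_point x
  let U : A.left.Opens := ⟨Zᶜ, by
    rw [isOpen_compl_iff, ← Set.biUnion_of_singleton Z]
    exact hZf.isClosed_biUnion hZc⟩
  have hb : ∀ x, pb (lift (toUnit A ≫ x) (𝟙 A)) (PicM.of hbF) = c x := fun x => by
    rw [← PicM.pull_of _ hF, ← hFe]
    change pb (lift (toUnit A ≫ x) (𝟙 A)) (pb br f) = _
    rw [AbCubeLib.pb_pb, show lift (toUnit A ≫ x) (𝟙 A) ≫ br = lift (𝟙 A) (toUnit A ≫ x) by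
      ext1 <;> simp [br], hs2]
  have hres : ∀ p, ∀ y ∈ U, CohIII.fiberRank (fst A A).left F' p y = 0 := by
    intro p y hy
    by_contra hr
    have hopen := CohBC.isOpen_fiberRank_eq_zero (fst A A).left F' hF'c (hfl hbF) p
    obtain ⟨z, ⟨hzU, hzr⟩, hzc⟩ := nonempty_inter_closedPoints
      (Z := (U : Set A.left) ∩ {y | CohIII.fiberRank (fst A A).left F' p y = 0}ᶜ) ⟨y, hy, hr⟩
      (U.isOpen.isLocallyClosed.inter hopen.isClosed_compl.isLocallyClosed)
    obtain ⟨x, rfl⟩ := hpt z hzc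
    refine hzr (hsl F' hbF x p (fun y => by rw [hb]; exact hcinv x y) ?_)
    rw [hb]
    intro h1
    refine hzU ⟨x, ?_, rfl⟩
    exact PicM.eq_of_mul_inv hll h1
  have hz2 : ∀ p, IsZero ((Coh.Rpush (fst A A).left p).obj F') := by
    intro p
    induction p using Nat.strong_induction_on with
    | _ p ih =>
      obtain ⟨φ⟩ := CohEdge27.nonempty_HH_equiv (fst A A).left F' p fun j hj =>
        ((Functor.map_isZero (toAbFunctor A.left) (ih j hj))).of_iso (toAbRpushIso (fst A A).left F' j).symm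
      haveI hΓ : Subsingleton Γ((Coh.Rpush (fst A A).left p).obj F', ⊤) :=
        @Equiv.subsingleton _ _ φ.symm.toEquiv (hH p)
      set R := (Coh.Rpush (fst A A).left p).obj F'
      have hU0 := CohBC.isZero_rpush_restrict (fst A A).left F' hF'c (hfl hbF) p U (hres p)
      have hsupp : CohB1.support R ⊆ Z := by
        intro z hz
        by_contra hzZ
        refine hz (subsingleton_of_forall_eq 0 fun s => ?_)
        obtain ⟨V, hzV, t, rfl⟩ := TopCat.Presheaf.exists_germ_eq R.presheaf s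
        have hW : U.ι ''ᵁ (U.ι ⁻¹ᵁ V) ≤ V := U.ι.image_preimage_le V
        have hzW : z ∈ U.ι ''ᵁ (U.ι ⁻¹ᵁ V) := ⟨⟨z, hzZ⟩, hzV, rfl⟩
        have h0 : resM R hW t = 0 := (CohEdge27.subsingleton_of_isZero hU0 (U.ι ⁻¹ᵁ V)).elim _ _
        rw [← TopCat.Presheaf.germ_res_apply R.presheaf (homOfLE hW) z hzW t]
        exact (congrArg _ h0).trans (map_zero _)
      haveI hfl : TopCat.Sheaf.IsFlasque (X := A.left.toTopCat) (Coh.toAb R) :=
        Coherent.isFlasque_of_support_finite R Z hZf hZc hsupp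
      rw [IsZero.iff_id_eq_zero]
      refine Scheme.Modules.hom_ext _ _ fun V => ?_
      ext t
      haveI := hfl.epi (homOfLE (le_top : V ≤ ⊤)).op
      obtain ⟨s, hs⟩ := (AddCommGrpCat.epi_iff_surjective _).1 this t
      have ht : (t : Γ(R, V)) = 0 :=
        hs.symm.trans ((congrArg (resM R (le_top : V ≤ ⊤)) (hΓ.elim s 0)).trans (map_zero _))
      exact (congrArg (fun u => Scheme.Modules.Hom.app (𝟙 R) V u) ht).trans
        ((map_zero _).trans ((map_zero _).symm.trans (congrArg (fun u => Scheme.Modules.Hom.app (0 : R ⟶ R) V u) ht.symm)))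
  have h1 : CohIII.fiberRank (fst A A).left F' 0 ((1 : 𝟙_ (Over (Spec (CommRingCat.of k))) ⟶ A).left (IsLocalRing.closedPoint k)) = 0 :=
    CohEdge27.fiberRank_eq_zero_of_isZero_rpush _ F' hF'c (hfl hbF) hz2 0 _
  have h2 := (CohEdge27.fiberRank_fst_point F' hF'c (1 : 𝟙_ (Over (Spec (CommRingCat.of k))) ⟶ A) 0).1 h1
  have htriv : pb (lift (toUnit A ≫ (1 : 𝟙_ (Over (Spec (CommRingCat.of k))) ⟶ A)) (𝟙 A)) (PicM.of hbF) = 1 := by
    rw [hb]
    simp only [c, τ, comp_one, _root_.mul_one, AbCubeLib.pb_id]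
    exact hll
  rw [pb, PicM.pull_of, PicM.of_eq_one_iff] at htriv
  obtain ⟨e⟩ := htriv
  have h3 : Subsingleton Γ(Coh.structureModule A.left, ⊤) :=
    @Equiv.subsingleton _ _ (CohEdge27.hhZero _).symm.toEquiv (FlatMorStrat.subsingleton_HH_of_iso e 0 h2)
  have := AbSchLib.nontrivial_sections_of_nonempty (X := A.left)
  exact one_ne_zero (α := Γ(A.left, ⊤)) (h3.elim _ _)


end Groth.Agent.CohEdge27
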