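import Groth.Agent.Coherent.HigherQcoh
import Groth.Agent.Coherent.MayerVietoris
import Groth.Agent.VarietyLib.PushEuler
import Groth.Agent.S0015
import Groth.Agent.Coherent.MonoCoh

/-!
# The edge map of the Leray spectral sequence

If the higher direct images `R^j f_* M` vanish for `j < k`, then `H^k(X, M) = Γ(S, R^k f_* M)`.
-/

set_option autoImplicit false
set_option linter.style.haveILetI false
set_option maxHeartbeats 4000000
set_option maxRecDepth 4000

universe u

open CategoryTheory CategoryTheory.Abelian CategoryTheory.Limits AlgebraicGeometry Opposite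
  TopologicalSpace

namespace Groth.Agent.CohEdge27

open Groth.Agent.Coherent

variable {X S : Scheme.{u}} (f : X ⟶ S) [QuasiCompact f] [QuasiSeparated f]
  [CompactSpace S] [QuasiSeparatedSpace S] (M : X.Modules) [Coh.IsQCoh M]

/-- `H^j(f⁻¹ U, M) = 0` on compact opens below the first nonzero direct image. -/
theorem subsingleton_H'_of_lt (k : ℕ)
    (h : ∀ j < k, IsZero ((Coh.RpushAb f j).obj (Coh.toAb M))) :
    ∀ j < k, ∀ U : S.Opens, IsCompact (U : Set S) →
      Subsingleton (Sheaf.H' (Coh.toAb M) j (f ⁻¹ᵁ U)) := by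
  intro j hj U hU
  revert j
  refine Groth.Agent.S0015.result S
    (fun U => ∀ j < k, Subsingleton (Sheaf.H' (Coh.toAb M) j (f ⁻¹ᵁ U))) ?_ ?_ U hU
  · intro V hV j hj
    exact Groth.Agent.VarietyLib.subsingleton_H'_preimage_of_isZero f M j (h j hj) hV
  · intro U V _ _ hU hV hUV j hj
    cases j with
    | zero =>
      refine subsingleton_of_forall_eq 0 fun x => ?_
      exact eq_zero_of_resH_zero (U := f ⁻¹ᵁ U) (V := f ⁻¹ᵁ V)
        (x := (x : Ext (freeSh (X := X.toTopCat) (f ⁻¹ᵁ U ⊔ f ⁻¹ᵁ V)) (Coh.toAb M) 0))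
        ((hU 0 hj).elim _ _) ((hV 0 hj).elim _ _)
    | succ n =>
      exact subsingleton_H'_sup (U := f ⁻¹ᵁ U) (V := f ⁻¹ᵁ V) n (hU _ hj) (hV _ hj)
        (hUV n (by omega))

variable (k : ℕ) (h : ∀ j < k, IsZero ((Coh.RpushAb f j).obj (Coh.toAb M)))

include h in
/-- A class vanishing on the pieces of a union of two compact opens vanishes. -/
theorem eq_zero_sup {U V : S.Opens} (hU : IsCompact (U : Set S)) (hV : IsCompact (V : Set S))
    (x : Ext (freeSh (X := X.toTopCat) (f ⁻¹ᵁ (U ⊔ V))) (Coh.toAb M) k)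
    (h₁ : resH (X := X.toTopCat) (Coh.toAb M) k (Scheme.Hom.preimage_mono f le_sup_left) x = 0)
    (h₂ : resH (X := X.toTopCat) (Coh.toAb M) k (Scheme.Hom.preimage_mono f le_sup_right) x = 0) :
    x = 0 := by
  cases k with
  | zero => exact eq_zero_of_resH_zero (U := f ⁻¹ᵁ U) (V := f ⁻¹ᵁ V) h₁ h₂
  | succ n =>
    obtain ⟨w, rfl⟩ := exists_deltaH (U := f ⁻¹ᵁ U) (V := f ⁻¹ᵁ V) h₁ h₂
    have : Subsingleton (Sheaf.H' (Coh.toAb M) n (f ⁻¹ᵁ (U ⊓ V))) :=
      subsingleton_H'_of_lt f M (n + 1) h n (by omega) (U ⊓ V)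
        (QuasiSeparatedSpace.inter_isCompact _ _ U.isOpen hU V.isOpen hV)
    exact (congrArg (deltaH (X := X.toTopCat) (Coh.toAb M) (f ⁻¹ᵁ U) (f ⁻¹ᵁ V) n) (this.elim w _)).trans (map_zero _)

include h in
/-- A class which vanishes locally over a compact open vanishes. -/
theorem eq_zero_of_locally {U : S.Opens} (hU : IsCompact (U : Set S))
    (x : Ext (freeSh (X := X.toTopCat) (f ⁻¹ᵁ U)) (Coh.toAb M) k)
    (hx : ∀ y ∈ U, ∃ (W : S.Opens) (hW : W ≤ U), y ∈ W ∧
      resH (X := X.toTopCat) (Coh.toAb M) k (Scheme.Hom.preimage_mono f hW) x = 0) : x = 0 := by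
  classical
  have hx' : ∀ y ∈ U, ∃ (W : S.Opens) (hW : W ≤ U), y ∈ W ∧ IsCompact (W : Set S) ∧
      resH (X := X.toTopCat) (Coh.toAb M) k (Scheme.Hom.preimage_mono f hW) x = 0 := by
    intro y hy
    obtain ⟨W, hW, hyW, h0⟩ := hx y hy
    obtain ⟨A, hA, hyA, hAW⟩ := Opens.isBasis_iff_nbhd.1 S.isBasis_affineOpens hyW
    refine ⟨A, hAW.trans hW, hyA, IsAffineOpen.isCompact hA, ?_⟩
    have := congrArg (resH (X := X.toTopCat) (Coh.toAb M) k (Scheme.Hom.preimage_mono f hAW)) h0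
    rwa [resH_resH, map_zero] at this
  choose W hW hyW hWc h0 using hx'
  obtain ⟨t, ht⟩ := hU.elim_finite_subcover (fun y : U => ((W y.1 y.2 : S.Opens) : Set S))
    (fun y => (W y.1 y.2).isOpen) fun y hy => Set.mem_iUnion.2 ⟨⟨y, hy⟩, hyW y hy⟩
  suffices key : ∀ s : Finset U, IsCompact ((s.sup fun y => W y.1 y.2 : S.Opens) : Set S) ∧
      ∀ hs : (s.sup fun y => W y.1 y.2) ≤ U,
        resH (X := X.toTopCat) (Coh.toAb M) k (Scheme.Hom.preimage_mono f hs) x = 0 by
    have e : (t.sup fun y => W y.1 y.2) = U := by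
      refine le_antisymm (Finset.sup_le fun y _ => hW y.1 y.2) fun y hy => ?_
      obtain ⟨i, hi, hyi⟩ := Set.mem_iUnion₂.1 (ht hy)
      exact Finset.le_sup (f := fun y : U => W y.1 y.2) hi hyi
    exact (MonoData.resH_eq_zero_iff (Scheme.Hom.preimage_mono f e.le) (Scheme.Hom.preimage_mono f e.ge) x).1
      ((key t).2 e.le)
  intro s
  induction s using Finset.induction with
  | empty =>
    refine ⟨by simp, fun hs => ?_⟩
    have hle : f ⁻¹ᵁ ((∅ : Finset U).sup fun y => W y.1 y.2) ≤ ⊥ := by simp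
    refine (MonoData.resH_eq_zero_iff (bot_le (a := f ⁻¹ᵁ ((∅ : Finset U).sup fun y => W y.1 y.2))) hle _).1 ?_
    exact (subsingleton_H'_bot (X := X.toTopCat) (Coh.toAb M) k).elim _ _
  | @insert a s ha ih =>
    refine ⟨by rw [Finset.sup_insert, Opens.coe_sup]; exact (hWc a.1 a.2).union ih.1, fun hs => ?_⟩
    have hs' : W a.1 a.2 ⊔ (s.sup fun y => W y.1 y.2) ≤ U := by rwa [Finset.sup_insert] at hs
    refine (MonoData.resH_eq_zero_iff (Scheme.Hom.preimage_mono f (Finset.sup_insert.ge))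
      (Scheme.Hom.preimage_mono f (Finset.sup_insert.le)) _).1 ?_
    rw [resH_resH]
    refine eq_zero_sup f M k h (hWc a.1 a.2) ih.1
      (resH (X := X.toTopCat) (Coh.toAb M) k (Scheme.Hom.preimage_mono f hs') x) ?_ ?_
    · rw [resH_resH]; exact h0 a.1 a.2
    · rw [resH_resH]; exact ih.2 (le_sup_right.trans hs')

variable [HasInjectiveResolutions X.Modules]

omit [QuasiCompact f] [QuasiSeparated f] [CompactSpace S] [QuasiSeparatedSpace S] [Coh.IsQCoh M] in
/-- A class with trivial image in `R^k f_* M` vanishes locally. -/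
theorem locally_zero_of_toRpush_eq_zero (V : S.Opens)
    (x : Ext (freeSh (X := X.toTopCat) (f ⁻¹ᵁ V)) (Coh.toAb M) k)
    (hx : toRpush f M k V x = 0) :
    ∀ y ∈ V, ∃ (W : S.Opens) (hW : W ≤ V), y ∈ W ∧
      resH (X := X.toTopCat) (Coh.toAb M) k (Scheme.Hom.preimage_mono f hW) x = 0 := by
  intro y hy
  let η := (rpushPshIso f k).inv.app M
  have : IsIso (η.hom.app (op V)) :=
    inferInstanceAs (IsIso (((sheafToPresheaf _ _).map η).app (op V)))
  have h1 : (toSheafify (Opens.grothendieckTopology S) (cohPsh f M k)).app (op V) x = 0 := by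
    apply (ConcreteCategory.bijective_of_isIso (η.hom.app (op V))).1
    exact hx.trans (map_zero _).symm
  have hsv := Presheaf.equalizerSieve_mem (Opens.grothendieckTopology S)
    (toSheafify (Opens.grothendieckTopology S) (cohPsh f M k)) (X := op V) x 0
    (h1.trans (map_zero _).symm)
  obtain ⟨W, g, hg, hyW⟩ := hsv y hy
  refine ⟨W, g.le, hyW, ?_⟩
  exact hg.trans (map_zero _)

omit [QuasiCompact f] [QuasiSeparated f] [CompactSpace S] [QuasiSeparatedSpace S] [Coh.IsQCoh M] in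
/-- Sections of `R^k f_* M` lift locally. -/
theorem exists_local_lift (V : S.Opens) (σ : Γ((Coh.Rpush f k).obj M, V)) :
    ∀ y ∈ V, ∃ (W : S.Opens) (hW : W ≤ V)
      (z : Ext (freeSh (X := X.toTopCat) (f ⁻¹ᵁ W)) (Coh.toAb M) k), y ∈ W ∧
      toRpush f M k W z = resM _ hW σ := by
  intro y hy
  let η := (rpushPshIso f k).inv.app M
  have : IsIso (η.hom.app (op V)) :=
    inferInstanceAs (IsIso (((sheafToPresheaf _ _).map η).app (op V)))
  obtain ⟨z, hz⟩ := (ConcreteCategory.bijective_of_isIso (η.hom.app (op V))).2 σ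
  have hsv := Presheaf.imageSieve_mem (Opens.grothendieckTopology S)
    (toSheafify (Opens.grothendieckTopology S) (cohPsh f M k)) (U := op V) z
  obtain ⟨W, g, ⟨w, hw⟩, hyW⟩ := hsv y hy
  refine ⟨W, g.le, w, hyW, ?_⟩
  exact (congrArg (η.hom.app (op W)) hw).trans
    ((ConcreteCategory.congr_hom (η.hom.naturality g.op) z).trans
      (congrArg (resM ((Coh.Rpush f k).obj M) g.le) hz))

include h in
theorem eq_of_toRpush_eq {U : S.Opens} (hU : IsCompact (U : Set S))
    (x y : Ext (freeSh (X := X.toTopCat) (f ⁻¹ᵁ U)) (Coh.toAb M) k)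
    (e : toRpush f M k U x = toRpush f M k U y) : x = y := by
  rw [← sub_eq_zero]
  exact eq_zero_of_locally f M k h hU _
    (locally_zero_of_toRpush_eq_zero f M k U _ (by rw [map_sub, e, sub_self]))

include h in
theorem exists_lift_sup {U A B : S.Opens} (hAc : IsCompact (A : Set S)) (hBc : IsCompact (B : Set S))
    (hA : A ≤ U) (hB : B ≤ U) (σ : Γ((Coh.Rpush f k).obj M, U))
    (hz : ∃ z, toRpush f M k A z = resM _ hA σ) (hw : ∃ w, toRpush f M k B w = resM _ hB σ)
    (C : S.Opens) (hC : C = A ⊔ B) (hCU : C ≤ U) :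
    ∃ x, toRpush f M k C x = resM _ hCU σ := by
  subst hC
  obtain ⟨z, hz⟩ := hz
  obtain ⟨w, hw⟩ := hw
  have hagree : resH (X := X.toTopCat) (Coh.toAb M) k (Scheme.Hom.preimage_mono f inf_le_left) z =
      resH (X := X.toTopCat) (Coh.toAb M) k (Scheme.Hom.preimage_mono f (inf_le_right : A ⊓ B ≤ B)) w := by
    refine eq_of_toRpush_eq f M k h
      (QuasiSeparatedSpace.inter_isCompact _ _ A.isOpen hAc B.isOpen hBc) _ _ ?_
    exact ((toRpush_res f M k (inf_le_left : A ⊓ B ≤ A) _).symm.trans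
      ((congrArg (resM _ inf_le_left) hz).trans (resM_resM _ _ _ σ))).trans
      (((congrArg (resM _ inf_le_right) hw).trans (resM_resM _ _ _ σ)).symm.trans
        (toRpush_res f M k (inf_le_right : A ⊓ B ≤ B) w))
  obtain ⟨x, h₁, h₂⟩ := exists_resH_sup (U := f ⁻¹ᵁ A) (V := f ⁻¹ᵁ B) hagree
  refine ⟨x, TopCat.Sheaf.eq_of_locally_eq₂ ⟨(Coh.toAb ((Coh.Rpush f k).obj M)).obj,
    (Coh.toAb ((Coh.Rpush f k).obj M)).property⟩ (homOfLE (le_sup_left : A ≤ A ⊔ B))
    (homOfLE (le_sup_right : B ≤ A ⊔ B)) le_rfl _ _ ?_ ?_⟩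
  · change resM _ le_sup_left (toRpush f M k (A ⊔ B) x) = resM _ le_sup_left (resM _ hCU σ)
    rw [resM_resM, toRpush_res f M k le_sup_left x]
    exact (congrArg (toRpush f M k A) h₁).trans hz
  · change resM _ le_sup_right (toRpush f M k (A ⊔ B) x) = resM _ le_sup_right (resM _ hCU σ)
    rw [resM_resM, toRpush_res f M k le_sup_right x]
    exact (congrArg (toRpush f M k B) h₂).trans hw

include h in
theorem exists_toRpush_eq {U : S.Opens} (hU : IsCompact (U : Set S))
    (σ : Γ((Coh.Rpush f k).obj M, U)) :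
    ∃ x, toRpush f M k U x = σ := by
  classical
  have hl : ∀ y ∈ U, ∃ (W : S.Opens) (hW : W ≤ U)
      (z : Ext (freeSh (X := X.toTopCat) (f ⁻¹ᵁ W)) (Coh.toAb M) k), y ∈ W ∧ IsCompact (W : Set S) ∧
      toRpush f M k W z = resM _ hW σ := by
    intro y hy
    obtain ⟨W, hW, z, hyW, hz⟩ := exists_local_lift f M k U σ y hy
    obtain ⟨A, hA, hyA, hAW⟩ := Opens.isBasis_iff_nbhd.1 S.isBasis_affineOpens hyW
    refine ⟨A, hAW.trans hW, resH (X := X.toTopCat) (Coh.toAb M) k (Scheme.Hom.preimage_mono f hAW) z,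
      hyA, IsAffineOpen.isCompact hA, ?_⟩
    rw [← toRpush_res f M k hAW z, hz, resM_resM]
  choose W hW z hyW hWc hz using hl
  obtain ⟨t, ht⟩ := hU.elim_finite_subcover (fun y : U => ((W y.1 y.2 : S.Opens) : Set S))
    (fun y => (W y.1 y.2).isOpen) fun y hy => Set.mem_iUnion.2 ⟨⟨y, hy⟩, hyW y hy⟩
  suffices key : ∀ s : Finset U, IsCompact ((s.sup fun y => W y.1 y.2 : S.Opens) : Set S) ∧
      ∀ hs : (s.sup fun y => W y.1 y.2) ≤ U,
        ∃ x, toRpush f M k (s.sup fun y => W y.1 y.2) x = resM _ hs σ by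
    have e : (t.sup fun y => W y.1 y.2) = U := by
      refine le_antisymm (Finset.sup_le fun y _ => hW y.1 y.2) fun y hy => ?_
      obtain ⟨i, hi, hyi⟩ := Set.mem_iUnion₂.1 (ht hy)
      exact Finset.le_sup (f := fun y : U => W y.1 y.2) hi hyi
    obtain ⟨x, hx⟩ := (key t).2 e.le
    refine ⟨resH (X := X.toTopCat) (Coh.toAb M) k (Scheme.Hom.preimage_mono f e.ge) x, ?_⟩
    exact (toRpush_res f M k e.ge x).symm.trans ((congrArg (resM _ e.ge) hx).trans
      ((resM_resM _ _ _ σ).trans (resM_refl _ σ)))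
  intro s
  induction s using Finset.induction with
  | empty =>
    refine ⟨by simp, fun hs => ⟨0, ?_⟩⟩
    refine TopCat.Sheaf.eq_of_locally_eq' (⟨(Coh.toAb ((Coh.Rpush f k).obj M)).obj,
      (Coh.toAb ((Coh.Rpush f k).obj M)).property⟩ : TopCat.Sheaf AddCommGrpCat.{u} S.toTopCat)
      (fun i : PEmpty.{u + 1} => i.elim) _ (fun i => i.elim) (by simp) _ _ (fun i => i.elim)
  | @insert a s ha ih =>
    refine ⟨by rw [Finset.sup_insert, Opens.coe_sup]; exact (hWc a.1 a.2).union ih.1, fun hs => ?_⟩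
    have hs' : W a.1 a.2 ⊔ (s.sup fun y => W y.1 y.2) ≤ U := by rwa [Finset.sup_insert] at hs
    exact exists_lift_sup f M k h (hWc a.1 a.2) ih.1 (hW a.1 a.2) (le_sup_right.trans hs') σ
      ⟨_, hz a.1 a.2⟩ (ih.2 (le_sup_right.trans hs')) _ Finset.sup_insert hs

include h in
/-- The edge map: `H^k(X, M) ≅ Γ(S, R^k f_* M)`. -/
theorem nonempty_HH_equiv :
    Nonempty (Coh.HH X M k ≃+ Γ((Coh.Rpush f k).obj M, (⊤ : S.Opens))) := by
  have hb : Function.Bijective (toRpush f M k (⊤ : S.Opens)) :=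
    ⟨fun x y e => eq_of_toRpush_eq f M k h (U := ⊤) isCompact_univ x y e,
      fun σ => exists_toRpush_eq f M k h (U := ⊤) isCompact_univ σ⟩
  exact ⟨(HHTopEquiv M k).trans (AddEquiv.ofBijective (toRpush f M k (⊤ : S.Opens)) hb)⟩

end Groth.Agent.CohEdge27
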